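import Groth.Agent.L22.Big.Basic
import Groth.Agent.L22.Inter.Mixed
import Groth.Agent.L22.Nakai.Diag
import Groth.Agent.L11.NumOrth.Hyperplane
import Groth.Agent.L21.RR.Mul

/-!
Positivity of the degree of an invertible module with a vanishing section.
-/

set_option autoImplicit false
set_option backward.isDefEq.respectTransparency false
set_option backward.isDefEq.respectTransparency.types false
set_option linter.style.haveILetI false
universe u

open CategoryTheory CategoryTheory.Limits AlgebraicGeometry TopologicalSpace

noncomputable section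

namespace Groth.L02.Pic13Deg

open Groth.L03.Euler Groth.L22.Inter Groth.L16

variable {X : Scheme.{u}} (k : Type u) [Field k] [X.Over (Spec (CommRingCat.of k))]
  [IsProper (X ↘ Spec (CommRingCat.of k))] [IsIntegral X]

theorem altT_pos_of_section {s : ℕ} (hdim : topologicalKrullDim X = ((s + 1 : ℕ) : WithBot ℕ∞))
    {L : X.Modules} (hL : PicF.IsInvertible L) {A A' : X.Modules} (hA : CohB1.IsAmple A)
    (hAA : Nonempty (CohB1.tensorMod A A' ≅ Coh.structureModule X))
    (φ : Coh.structureModule X ⟶ L) (hφ : φ ≠ 0) (hnot : ¬ IsIso φ) :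
    0 < altT k (Fin.cons L (fun _ : Fin s => A)) (Coh.structureModule X) := by
  haveI := Groth.L21.RR.isNoetherian_of_proper (X := X) k
  have hgen := Groth.L22.CurveAmple.genericPoint_mem_genLocus hL hφ
  haveI : Mono φ := Groth.L22.Nakai.mono_of_injective (Groth.L18.Ample.isInvertible_structureModule X) φ
    (Groth.L22.Big.bijective_stalk_section φ hgen).1
  have hO := CohClosedPush.isCoh_structure (X := X)
  have hLc := Groth.L18.Ample.isCoh_of_isInvertible hL
  have hC := (CohKernel.isCoh_kernel_cokernel hO hLc φ).2
  have hsupp : CohB1.support (cokernel φ) = (CohB1.genLocus L φ : Set X)ᶜ := by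
    ext x
    rw [Set.mem_compl_iff, SetLike.mem_coe, Groth.L21.RR.mem_genLocus_iff hL]
    exact (not_not.symm.trans (not_congr (notMem_support_cokernel_iff φ)) :)
  have hCc : IsClosed (CohB1.support (cokernel φ)) := CohSupport.isClosed_support _ hC.2
  have hne : (CohB1.support (cokernel φ)).Nonempty := by
    by_contra h
    refine hnot ?_
    haveI : Epi φ := Preadditive.epi_of_isZero_cokernel φ
      ((Groth.L21.Mod.isZero_iff_support_eq_empty _).2 (Set.not_nonempty_iff_eq_empty.1 h))
    exact isIso_of_mono_of_epi φ
  obtain ⟨z, hz, hmax⟩ := Devissage.exists_maximal_point hCc hne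
  have hz' := hz
  rw [hsupp] at hz'
  obtain ⟨m, hm, hm'⟩ := dim_closure_eq_add_one k hL φ hgen
    ((show closure ({genericPoint X} : Set X) = Set.univ from genericPoint_spec X) ▸ (Set.mem_univ z : z ∈ (Set.univ : Set X))) hz'
    fun w _ hw hwz => hmax w (hsupp.ge hw) hwz
  have hclo : closure ({genericPoint X} : Set X) = Set.univ := (show closure ({genericPoint X} : Set X) = Set.univ from genericPoint_spec X)
  rw [hclo, (IsHomeomorph.topologicalKrullDim_eq _ (Homeomorph.Set.univ X).isHomeomorph).trans hdim] at hm'
  have hms : m = s := by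
    have : s + 1 = m + 1 := by exact_mod_cast hm'
    omega
  subst hms
  have hle : topologicalKrullDim (CohB1.support (cokernel φ)) ≤ (m : WithBot ℕ∞) :=
    Groth.L22.Big.dim_le_of_generic_notMem hCc (by rw [hsupp]; exact fun h => h hgen) hdim.le
  have heq : topologicalKrullDim (CohB1.support (cokernel φ)) = (m : WithBot ℕ∞) :=
    le_antisymm hle (hm ▸ topologicalKrullDim_set_mono (closure_minimal (Set.singleton_subset_iff.2 hz) hCc))
  have hpos := (mixed k (fun _ : Fin m => A) (fun _ => A') (fun _ => hA) (fun _ => hAA) hC hle).2.2 heq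
  have hmap := altT_map k (L := fun _ : Fin m => A) (fun _ => hA.1) hO hLc φ
  rw [altT, altT, altT, altT, twEuler_of_isZero k (fun _ : Fin m => hA.1) (isZero_kernel_of_mono φ), map_zero] at hmap
  rw [altT_cons, altT_iso k _ (Groth.L00.Tensor.tensorUnitLeft L)]
  change alt (twEuler k (fun _ : Fin m => A) (Coh.structureModule X)) - alt (twEuler k (fun _ : Fin m => A) L) =
    0 - alt (twEuler k (fun _ : Fin m => A) (cokernel φ)) at hmap
  unfold altT at hpos ⊢
  linarith

end Groth.L02.Pic13Deg
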