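import Mathlib.RingTheory.Polynomial.Pochhammer
import Mathlib.Algebra.Polynomial.Roots
import Mathlib.Data.Nat.Choose.Basic
import Mathlib.Algebra.BigOperators.Fin
import Mathlib.Tactic

/-!
Polynomials in the binomial basis `C(m + j, j)`.
-/

set_option autoImplicit false

open Polynomial

noncomputable section

namespace Groth.L02.Pic13Deg

/-- `m ↦ C(m + j, j)` as a polynomial. -/
def bpoly (j : ℕ) : ℚ[X] := C ((j.factorial : ℚ)⁻¹) * (ascPochhammer ℚ j).comp (X + C 1)

theorem eval_bpoly (j m : ℕ) : (bpoly j).eval (m : ℚ) = ((m + j).choose j : ℚ) := by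
  rw [bpoly, eval_mul, eval_C, eval_comp, eval_add, eval_X, eval_C,
    show (m : ℚ) + 1 = ((m + 1 : ℕ) : ℚ) by push_cast; ring, ← ascPochhammer_eval_cast,
    ascPochhammer_nat_eq_ascFactorial, Nat.ascFactorial_eq_factorial_mul_choose]
  push_cast
  field_simp

theorem natDegree_bp (j : ℕ) : ((ascPochhammer ℚ j).comp (X + C 1)).natDegree = j := by
  rw [natDegree_comp, ascPochhammer_natDegree, natDegree_X_add_C, mul_one]

theorem natDegree_bpoly_le (j : ℕ) : (bpoly j).natDegree ≤ j :=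
  (natDegree_C_mul_le _ _).trans (natDegree_bp j).le

theorem coeff_bpoly (j : ℕ) : (bpoly j).coeff j = (j.factorial : ℚ)⁻¹ := by
  have h : ((ascPochhammer ℚ j).comp (X + C 1)).Monic :=
    (monic_ascPochhammer ℚ j).comp (monic_X_add_C 1) (by rw [natDegree_X_add_C]; exact one_ne_zero)
  rw [bpoly, coeff_C_mul]
  have := h.coeff_natDegree
  rw [natDegree_bp j] at this
  rw [this, mul_one]

/-- The polynomial with given binomial coefficients. -/
def bsum {N : ℕ} (a : Fin (N + 1) → ℤ) : ℚ[X] := ∑ j, C (a j : ℚ) * bpoly j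

theorem eval_bsum {N : ℕ} (a : Fin (N + 1) → ℤ) (m : ℕ) :
    (bsum a).eval (m : ℚ) = ((∑ j, a j * ((m + j).choose j : ℤ) : ℤ) : ℚ) := by
  rw [bsum, eval_finsetSum, Int.cast_sum]
  refine Finset.sum_congr rfl fun j _ => ?_
  rw [eval_mul, eval_C, eval_bpoly]
  push_cast
  rfl

theorem natDegree_bsum_le {N : ℕ} (a : Fin (N + 1) → ℤ) : (bsum a).natDegree ≤ N :=
  natDegree_sum_le_of_forall_le _ _ fun j _ =>
    ((natDegree_C_mul_le _ _).trans (natDegree_bpoly_le _)).trans (Nat.lt_succ_iff.1 j.2)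

theorem coeff_bsum {N : ℕ} (a : Fin (N + 1) → ℤ) :
    (N.factorial : ℚ) * (bsum a).coeff N = (a (Fin.last N) : ℚ) := by
  rw [bsum, finsetSum_coeff, Finset.sum_eq_single (Fin.last N)]
  · rw [coeff_C_mul, Fin.val_last, coeff_bpoly]
    field_simp
  · intro j _ hj
    rw [coeff_C_mul, coeff_eq_zero_of_natDegree_lt, mul_zero]
    exact lt_of_le_of_lt (natDegree_bpoly_le _) (Fin.lt_last_iff_ne_last.2 hj)
  · exact fun h => absurd (Finset.mem_univ _) h

theorem bsum_succ {N : ℕ} (a : Fin (N + 2) → ℤ) (h : a (Fin.last (N + 1)) = 0) :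
    bsum a = bsum (fun j : Fin (N + 1) => a j.castSucc) := by
  rw [bsum, Fin.sum_univ_castSucc, h]
  simp [bsum]

theorem bsum_sub {N : ℕ} (a e : Fin (N + 1) → ℤ) : bsum a - bsum e = bsum (a - e) := by
  rw [bsum, bsum, bsum, ← Finset.sum_sub_distrib]
  refine Finset.sum_congr rfl fun j _ => ?_
  rw [← sub_mul, ← map_sub, Pi.sub_apply, Int.cast_sub]

end Groth.L02.Pic13Deg
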