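import Groth.Agent.L11.Bdd.Regular
import Groth.Agent.L22.Big.Nef
import Groth.Agent.L22.Nakai.Diag
import Groth.Agent.L22.VeryAmple.Immersion

/-!
# Intersection degrees on a bounded family are bounded
-/

set_option autoImplicit false
set_option backward.isDefEq.respectTransparency false
set_option linter.style.haveILetI false
set_option linter.unusedSectionVars false

universe u

open CategoryTheory CategoryTheory.Limits AlgebraicGeometry TopologicalSpace

noncomputable section

namespace Groth.L02.Pic13Deg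

open Groth.L22.Inter Groth.L22.Nef Groth.L03.Euler Groth.L16 Groth.L11.NumOrth
open Groth.L00.Tensor (tensorIso tensorAssoc tensorComm tensorUnitRight tensorUnitLeft)

variable {X : Scheme.{u}} (k : Type u) [Field k] [X.Over (Spec (CommRingCat.of k))]

section Scale

variable [IsProper (X ↘ Spec (CommRingCat.of k))]

theorem isInvertible_update {r : ℕ} {L : Fin r → X.Modules} (hL : ∀ i, PicF.IsInvertible (L i))
    {A : X.Modules} (hA : PicF.IsInvertible A) (i : Fin r) : ∀ j, PicF.IsInvertible (Function.update L i A j) :=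
  Function.forall_update_iff (f := L) (a := i) (b := A) (fun _ M => PicF.IsInvertible M) |>.2
    ⟨hA, fun j _ => hL j⟩

/-- Powers in any slot. -/
theorem altT_update_pow {r : ℕ} {L : Fin r → X.Modules} (hL : ∀ i, PicF.IsInvertible (L i)) (i : Fin r)
    {A : X.Modules} (hA : PicF.IsInvertible A) {F : X.Modules} (hF : Coh.IsCoh F)
    (h : topologicalKrullDim (CohB1.support F) ≤ r) (N : ℕ) :
    altT k (Function.update L i (CohB1.tensorPow A N)) F = N * altT k (Function.update L i A) F := by
  obtain ⟨r, rfl⟩ := Nat.exists_eq_succ_of_ne_zero (Nat.pos_iff_ne_zero.1 i.pos)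
  rw [altT_move, altT_move, altT_pow k (fun _ => hL _) hA hF h]

/-- Powers in all slots. -/
theorem altT_powAll {r : ℕ} {L : Fin r → X.Modules} (hL : ∀ i, PicF.IsInvertible (L i)) (e : Fin r → ℕ)
    {F : X.Modules} (hF : Coh.IsCoh F) (h : topologicalKrullDim (CohB1.support F) ≤ r) :
    altT k (fun i => CohB1.tensorPow (L i) (e i)) F = (∏ i, (e i : ℚ)) * altT k L F := by
  classical
  suffices H : ∀ s : Finset (Fin r),
      altT k (fun i => if i ∈ s then CohB1.tensorPow (L i) (e i) else L i) F = (∏ i ∈ s, (e i : ℚ)) * altT k L F by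
    simpa using H Finset.univ
  intro s
  induction s using Finset.induction_on with
  | empty => simp
  | @insert a s ha ih =>
    let M : Fin r → X.Modules := fun i => if i ∈ s then CohB1.tensorPow (L i) (e i) else L i
    have hM : ∀ i, PicF.IsInvertible (M i) := fun i => by
      show PicF.IsInvertible (if i ∈ s then _ else _)
      split
      · exact Groth.L18.Ample.isInvertible_tensorPow (hL i) _
      · exact hL i
    have h1 : (fun i => if i ∈ insert a s then CohB1.tensorPow (L i) (e i) else L i) =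
        Function.update M a (CohB1.tensorPow (L a) (e a)) := by
      funext i
      by_cases hi : i = a
      · subst hi; simp
      · simp [M, Function.update_of_ne hi, hi]
    have h2 : Function.update M a (L a) = M := by
      funext i
      by_cases hi : i = a
      · subst hi; simp [M, ha]
      · simp [Function.update_of_ne hi]
    rw [h1, altT_update_pow k hM a (hL a) hF h, h2, ih, Finset.prod_insert ha]
    ring

end Scale

/-- Isomorphic constant slots. -/
theorem altT_const_congr [IsProper (X ↘ Spec (CommRingCat.of k))] {A B : X.Modules} (e : A ≅ B) : ∀ (r : ℕ) (F : X.Modules),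
    altT k (fun _ : Fin r => A) F = altT k (fun _ : Fin r => B) F
  | 0, F => congrArg (fun L => altT k L F) (funext fun i => i.elim0)
  | r + 1, F => by
    rw [show (fun _ : Fin (r + 1) => A) = Fin.cons A (fun _ : Fin r => A) from funext (Fin.cases rfl fun _ => rfl),
      show (fun _ : Fin (r + 1) => B) = Fin.cons B (fun _ : Fin r => B) from funext (Fin.cases rfl fun _ => rfl),
      altT_slot_congr k e, altT_cons, altT_cons, altT_const_congr e r, altT_const_congr e r]

variable {n : ℕ} (ι : X ⟶ CohB1.ProjSpace n k)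

/-- All slots `O(1)`: the mixed difference only depends on the Euler polynomial. -/
theorem altT_const_eq (r : ℕ) (F : X.Modules) (φ : Polynomial ℚ)
    (hφ : ∀ d : ℤ, (Curv2.euler k X (Pic13.twistOn k ι F d) : ℚ) = φ.eval (d : ℚ)) :
    altT k (fun _ : Fin r => OX ι 1) F = alt (fun m : Fin r → ℕ => φ.eval ((∑ i, m i : ℕ) : ℚ)) := by
  refine congrArg alt (funext fun m => ?_)
  obtain ⟨e⟩ := Groth.L22.Nakai.nonempty_tensorPows_const (L := OX ι 1) m
  obtain ⟨e'⟩ := nonempty_pow_OX ι (∑ i, m i)
  have h := hφ ((∑ i, m i : ℕ) : ℤ)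
  rw [Int.cast_natCast] at h
  rw [← h]
  exact congrArg (Int.cast : ℤ → ℚ) (euler_iso (tensorIso (Iso.refl F) (e ≪≫ e')))

variable [IsAlgClosed k] [IsProper (X ↘ Spec (CommRingCat.of k))] [IsClosedImmersion ι]

include k in
/-- On a bounded family the top mixed differences against `O(1)` take finitely many values. -/
theorem exists_altT_bound (hι : ι ≫ CohB1.ProjSpace.toSpec n k = (X ↘ Spec (CommRingCat.of k)))
    {P : X.Modules → Prop} (hb : Pic13.IsBounded k X P) (r : ℕ) :
    ∃ C : ℚ, ∀ F, P F → |altT k (fun _ : Fin r => OX ι 1) F| ≤ C := by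
  obtain ⟨_, s, hs⟩ := Groth.L11.Bdd.regular_polys_of_bounded k ι hι hb
  refine ⟨∑ φ ∈ s, |alt (fun m : Fin r → ℕ => φ.eval ((∑ i, m i : ℕ) : ℚ))|, fun F hF => ?_⟩
  obtain ⟨φ, hφs, hφ⟩ := (hs F hF).2
  rw [altT_const_eq k ι r F φ hφ]
  exact Finset.single_le_sum (f := fun φ : Polynomial ℚ =>
    |alt (fun m : Fin r → ℕ => φ.eval ((∑ i, m i : ℕ) : ℚ))|) (fun _ _ => abs_nonneg _) hφs

end Groth.L02.Pic13Deg

namespace Groth.L02.Pic13Deg

open Groth.L00.Tensor (tensorIso)

variable {X : Scheme.{u}} (k : Type u) [Field k] [X.Over (Spec (CommRingCat.of k))]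
  [IsProper (X ↘ Spec (CommRingCat.of k))]

/-- Squares of a bounded family form a bounded family. -/
theorem isBounded_sq {P : X.Modules → Prop} (hb : Pic13.IsBounded k X P) :
    Pic13.IsBounded k X (fun M => ∃ L, P L ∧ M = CohB1.tensorMod (CohB1.tensorMod (Coh.structureModule X) L) L) := by
  obtain ⟨T, q, hft, hqc, F, hF, hmem⟩ := hb
  haveI := hft
  haveI := Groth.L11.Bdd.isLocallyNoetherian_prod (k := k) (X := X) q
  refine ⟨T, q, hft, hqc, CohB1.tensorMod F F, Groth.L15.Ref.isCoh_tensorMod hF hF, ?_⟩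
  rintro M ⟨L, hL, rfl⟩
  obtain ⟨t, ht, ⟨e⟩⟩ := hmem L hL
  exact ⟨t, ht, ⟨(Groth.L29.DC.PullTensor.pullTensor (Pic13.sliceAt k X q t ht) F F).symm ≪≫
    tensorIso (e ≪≫ (Groth.L00.Tensor.tensorUnitLeft L).symm) e⟩⟩

/-- Bounded after tensoring with the unit. -/
theorem isBounded_unit {P : X.Modules → Prop} (hb : Pic13.IsBounded k X P) :
    Pic13.IsBounded k X (fun M => ∃ L, P L ∧ M = CohB1.tensorMod (Coh.structureModule X) L) := by
  obtain ⟨T, q, hft, hqc, F, hF, hmem⟩ := hb
  refine ⟨T, q, hft, hqc, F, hF, ?_⟩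
  rintro M ⟨L, hL, rfl⟩
  obtain ⟨t, ht, ⟨e⟩⟩ := hmem L hL
  exact ⟨t, ht, ⟨e ≪≫ (Groth.L00.Tensor.tensorUnitLeft L).symm⟩⟩

end Groth.L02.Pic13Deg
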