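import Groth.Agent.L26.Pic13.TauChi
import Groth.Agent.L26.Pic0.Support
import Groth.Agent.L22.Inter.Fga
import Groth.Agent.L03.ShStab.Trunc
import Groth.Agent.L22.VeryAmple.Over
import Groth.Agent.L05.EulerDiv.PowerFibre

/-!
# Euler characteristics on geometric fibres
-/

set_option autoImplicit false
set_option backward.isDefEq.respectTransparency false
set_option linter.style.haveILetI false
set_option linter.unusedSectionVars false

universe u

open CategoryTheory CategoryTheory.Limits AlgebraicGeometry TopologicalSpace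

noncomputable section

namespace Groth.L02.Pic13Deg

open Groth.L03.Euler

variable {X S : Scheme.{u}} (f : X ⟶ S) [IsProper f] [IsLocallyNoetherian X]

/-- The geometric fibre has the Euler characteristic of the fibre. -/
theorem euler_geomFibre {G : X.Modules} (hG : Coh.IsCoh G) (Ω : Type u) [Field Ω]
    (σ : Spec (CommRingCat.of Ω) ⟶ S) (s : S) (hs : Set.range σ.base = {s})
    [(pullback f σ).Over (Spec (CommRingCat.of Ω))]
    (hstr : (pullback f σ ↘ Spec (CommRingCat.of Ω)) = pullback.snd f σ) :
    PerfAux.eulerChar f G s = Curv2.euler Ω (pullback f σ) ((Scheme.Modules.pullback (pullback.fst f σ)).obj G) := by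
  have hy : σ (IsLocalRing.closedPoint Ω) = s := by
    simpa [hs] using (Set.mem_range_self (f := σ.base) (IsLocalRing.closedPoint Ω))
  subst hy
  let y := σ (IsLocalRing.closedPoint Ω)
  letI : (f.fiber y).Over (Spec (CommRingCat.of (S.residueField y))) := ⟨f.fiberToSpecResidueField y⟩
  let φ := Scheme.descResidueField (Scheme.stalkClosedPointTo σ)
  letI : Algebra (S.residueField y) Ω := φ.hom.toAlgebra
  have hte : Spec.map φ ≫ S.fromSpecResidueField y = σ :=
    Scheme.descResidueField_stalkClosedPointTo_fromSpecResidueField Ω S σ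
  let p : pullback f σ ⟶ f.fiber y := pullback.lift (pullback.fst f σ) (pullback.snd f σ ≫ Spec.map φ)
    (by rw [Category.assoc, hte]; exact pullback.condition)
  have hp : p ≫ f.fiberι y = pullback.fst f σ := pullback.lift_fst _ _ _
  have sq : IsPullback p (pullback f σ ↘ Spec (CommRingCat.of Ω)) (f.fiberToSpecResidueField y)
      (Spec.map (CommRingCat.ofHom (algebraMap (S.residueField y) Ω))) := by
    rw [hstr]
    refine IsPullback.of_right (h₁₂ := f.fiberι y) (h₂₂ := S.fromSpecResidueField y) (v₁₃ := f) ?_ ?_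
      (IsPullback.of_hasPullback f (S.fromSpecResidueField y))
    · rw [hp, show CommRingCat.ofHom (algebraMap (S.residueField y) Ω) = φ from rfl, hte]
      exact IsPullback.of_hasPullback f σ
    · exact pullback.lift_snd _ _ _
  haveI : IsProper (f.fiberToSpecResidueField y) := MorphismProperty.pullback_snd _ _ inferInstance
  haveI : IsProper (f.fiber y ↘ Spec (CommRingCat.of (S.residueField y))) :=
    inferInstanceAs (IsProper (f.fiberToSpecResidueField y))
  haveI : IsLocallyNoetherian (f.fiber y) :=
    LocallyOfFiniteType.isLocallyNoetherian (f.fiber y ↘ Spec (CommRingCat.of (S.residueField y)))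
  have h := Groth.L21.RR.euler_pullback (k := S.residueField y) (K := Ω) p sq
    (Groth.L16.AffineBC.isCoh_pullback (f.fiberι y) hG)
  refine Eq.trans h.symm ?_
  exact euler_iso ((Scheme.Modules.pullbackComp p (f.fiberι y)).app G ≪≫ (Scheme.Modules.pullbackCongr hp).app G)

/-- The pullback of `O(1)` to a geometric fibre of a closed subscheme of projective space is ample. -/
theorem isAmple_geomFibre {n : ℕ} (i : X ⟶ CohB1.ProjSpaceOver n S) [IsClosedImmersion i]
    (Ω : Type u) [Field Ω] (σ : Spec (CommRingCat.of Ω) ⟶ S) :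
    CohB1.IsAmple ((Scheme.Modules.pullback (pullback.fst (i ≫ CohB1.ProjSpaceOver.toBase n S) σ)).obj
      ((Scheme.Modules.pullback i).obj (Twist.twistOver n S 1))) := by
  let t := CohB1.ProjSpace.toSpec n (ULift.{u} ℤ)
  let ε := specULiftZIsTerminal.{u}.from S
  let kk : pullback t (σ ≫ ε) ⟶ pullback t ε :=
    pullback.lift (pullback.fst _ _) (pullback.snd _ _ ≫ σ) (by rw [Category.assoc]; exact pullback.condition)
  have hk1 : kk ≫ pullback.fst t ε = pullback.fst _ _ := pullback.lift_fst _ _ _
  have hk2 : kk ≫ pullback.snd t ε = pullback.snd _ _ ≫ σ := pullback.lift_snd _ _ _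
  have hb : IsPullback kk (pullback.snd t (σ ≫ ε)) (pullback.snd t ε) σ :=
    IsPullback.of_right (h₁₂ := pullback.fst t ε) (h₂₂ := ε) (v₁₃ := t)
      (by rw [hk1]; exact (IsPullback.of_hasPullback t (σ ≫ ε)).flip.flip) hk2
      (IsPullback.of_hasPullback t ε)
  let j : pullback (i ≫ CohB1.ProjSpaceOver.toBase n S) σ ⟶ pullback t (σ ≫ ε) :=
    hb.lift (pullback.fst _ σ ≫ i) (pullback.snd _ σ) (by rw [Category.assoc]; exact pullback.condition)
  have hj1 : j ≫ kk = pullback.fst _ σ ≫ i := hb.lift_fst _ _ _
  have hj2 : j ≫ pullback.snd t (σ ≫ ε) = pullback.snd _ σ := hb.lift_snd _ _ _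
  have hsq : IsPullback (pullback.fst _ σ) j i kk := by
    refine IsPullback.of_bot (h₃₁ := σ) (v₂₁ := pullback.snd t (σ ≫ ε)) (v₂₂ := pullback.snd t ε) ?_ hj1.symm hb
    rw [hj2]
    exact IsPullback.of_hasPullback _ _
  haveI : IsClosedImmersion j :=
    MorphismProperty.IsStableUnderBaseChange.of_isPullback (P := @IsClosedImmersion) hsq inferInstance
  haveI : IsAffineHom (σ ≫ ε) := inferInstance
  haveI : IsAffineHom (pullback.fst t (σ ≫ ε)) := MorphismProperty.pullback_fst _ _ inferInstance
  have hc : j ≫ pullback.fst t (σ ≫ ε) = pullback.fst _ σ ≫ i ≫ pullback.fst t ε := by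
    rw [← hk1, reassoc_of% hj1]
  exact Groth.L18.Ample.isAmple_of_iso (((Scheme.Modules.pullbackComp (pullback.fst _ σ) i).app _ ≪≫
      (Scheme.Modules.pullbackComp (pullback.fst _ σ ≫ i) (pullback.fst t ε)).app _ ≪≫
      (Scheme.Modules.pullbackCongr (by rw [hc, Category.assoc])).app _).symm)
    (Groth.L18.Ample.isAmple_pullback_of_isAffineHom (j ≫ pullback.fst t (σ ≫ ε))
      (show CohB1.IsAmple (Twist.twistProjSpace n (ULift.{u} ℤ) 1) from
        Groth.L18.Ample.isAmple_of_iso (Iso.refl _) (Groth.L22.VeryAmple.isAmple_O1 n (ULift.{u} ℤ))))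

end Groth.L02.Pic13Deg
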